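import Groth.Agent.NakaiLib.Apps
import Groth.Agent.CycLib.IntPush
import Groth.Agent.ShStabLib.DimBound
import Groth.Agent.IntLib.Num
import Groth.Agent.DVRCrit.Local
import Groth.Agent.S10841

/-!
Numerical equivalence and pullbacks.
-/

set_option autoImplicit false
set_option backward.isDefEq.respectTransparency false
set_option linter.style.haveILetI false

universe u

open CategoryTheory CategoryTheory.Limits AlgebraicGeometry TopologicalSpace

noncomputable section

namespace Groth.Agent.NumPullLib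

variable (k : Type u) [Field k] {X X' : Scheme.{u}} [X.Over (Spec (CommRingCat.of k))]
  [X'.Over (Spec (CommRingCat.of k))]
  [IsProper (X ↘ Spec (CommRingCat.of k))] [IsProper (X' ↘ Spec (CommRingCat.of k))]

/-- The image of an integral scheme of dimension at most `r` has dimension at most `r`. -/
theorem dim_range_le {Y : Scheme.{u}} [IsIntegral Y] (q : Y ⟶ Spec (CommRingCat.of k)) [IsProper q] (h : Y ⟶ X)
    (hh : h ≫ (X ↘ Spec (CommRingCat.of k)) = q) {r : ℕ} (hY : topologicalKrullDim Y ≤ (r : WithBot ℕ∞)) :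
    topologicalKrullDim ↥(Set.range h) ≤ (r : WithBot ℕ∞) := by
  haveI : IsProper (h ≫ (X ↘ Spec (CommRingCat.of k))) := hh ▸ inferInstance
  haveI : IsProper h := IsProper.of_comp h (X ↘ Spec (CommRingCat.of k))
  let J := Scheme.IdealSheafData.vanishingIdeal (⟨Set.range h, h.isClosedMap.isClosed_range⟩ : Closeds X)
  have hJ : Set.range J.subschemeι = Set.range h := by
    rw [Scheme.IdealSheafData.range_subschemeι, Scheme.IdealSheafData.coe_support_vanishingIdeal]
    rfl
  haveI : IsIntegral J.subscheme := CurveLib.isIntegral_vanishingIdeal (X := X) h.isClosedMap.isClosed_range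
    (Set.image_univ ▸ (IrreducibleSpace.isIrreducible_univ Y).image _ h.continuous.continuousOn)
  obtain ⟨j, hj⟩ := DVRCrit.exists_factor_closed J.subschemeι h hJ.ge
  have hs : Function.Surjective j := fun z => by
    obtain ⟨y, hy⟩ := hJ.le ⟨z, rfl⟩
    exact ⟨y, J.subschemeι.isClosedEmbedding.injective (by rw [← Scheme.Hom.comp_apply, hj, hy])⟩
  have h1 := S10841.result k (J.subschemeι ≫ (X ↘ Spec (CommRingCat.of k))) q j
    (by rw [← Category.assoc, hj, hh]) (hs _)
  rw [J.subschemeι.isEmbedding.toHomeomorph.isHomeomorph.topologicalKrullDim_eq, hJ] at h1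
  exact h1.trans hY

/-- The degree of a pulled back module on a curve, on the target. -/
theorem curveDeg_pullback (g : X' ⟶ X) (hg : g ≫ (X ↘ Spec (CommRingCat.of k)) = X' ↘ Spec (CommRingCat.of k))
    (Y : Scheme.{u}) (ι : Y ⟶ X') [IsClosedImmersion ι] [IsIntegral Y] (hY : topologicalKrullDim Y = 1)
    (L : X.Modules) (hL : PicF.IsInvertible L) :
    Pic13.curveDeg k (ι ≫ (X' ↘ Spec (CommRingCat.of k)))
        ((Scheme.Modules.pullback ι).obj ((Scheme.Modules.pullback g).obj L)) =
      - IntLib.pairing k ((Coh.push g).obj ((Scheme.Modules.pushforward ι).obj (Coh.structureModule Y)))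
          (∏ _i : Fin 1, IntLib.dif hL) := by
  have hF : Coh.IsCoh ((Scheme.Modules.pushforward ι).obj (Coh.structureModule Y)) := by
    haveI := EulerIneqLib.isNoetherian_proper (X := X') k
    haveI : IsLocallyNoetherian Y := LocallyOfFiniteType.isLocallyNoetherian (ι ≫ (X' ↘ Spec (CommRingCat.of k)))
    exact DevLib.isCoh_pushforward_closed ι (DevLib.isCoh_structureModule _)
  have hd : topologicalKrullDim (CohB1.support ((Scheme.Modules.pushforward ι).obj (Coh.structureModule Y))) ≤
      ((1 : ℕ) : WithBot ℕ∞) :=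
    (Topology.IsEmbedding.inclusion (IntLib.support_pushforward_subset ι _)).isInducing.topologicalKrullDim_le.trans
      (by rw [← ι.isEmbedding.toHomeomorph.isHomeomorph.topologicalKrullDim_eq, hY, Nat.cast_one])
  rw [← CycLib.intNum_pull_eq_intNum_push k hg (fun _ : Fin 1 => L) (fun _ => hL) hF hd, Fin.prod_univ_one,
    Nakai.curveDeg_eq k (AmpleLib.isInvertible_pullback g hL) ι (by rw [hY, Nat.cast_one]), Nakai.cl_eq_neg_dif,
    map_neg]

/-- Numerical equivalence is preserved by pullback. -/
theorem curveDeg_pullback_eq (g : X' ⟶ X) (hg : g ≫ (X ↘ Spec (CommRingCat.of k)) = X' ↘ Spec (CommRingCat.of k))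
    (L N : X.Modules) (hL : PicF.IsInvertible L) (hN : PicF.IsInvertible N)
    (hnum : ∀ (Y : Scheme.{u}) (ι : Y ⟶ X) [IsClosedImmersion ι], IsIntegral Y → topologicalKrullDim Y = 1 →
      Pic13.curveDeg k (ι ≫ (X ↘ Spec (CommRingCat.of k))) ((Scheme.Modules.pullback ι).obj L) =
        Pic13.curveDeg k (ι ≫ (X ↘ Spec (CommRingCat.of k))) ((Scheme.Modules.pullback ι).obj N))
    (Y : Scheme.{u}) (ι : Y ⟶ X') [IsClosedImmersion ι] (hYi : IsIntegral Y) (hY : topologicalKrullDim Y = 1) :
    Pic13.curveDeg k (ι ≫ (X' ↘ Spec (CommRingCat.of k)))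
        ((Scheme.Modules.pullback ι).obj ((Scheme.Modules.pullback g).obj L)) =
      Pic13.curveDeg k (ι ≫ (X' ↘ Spec (CommRingCat.of k)))
        ((Scheme.Modules.pullback ι).obj ((Scheme.Modules.pullback g).obj N)) := by
  haveI := EulerIneqLib.isNoetherian_proper (X := X) k
  haveI := EulerIneqLib.isNoetherian_proper (X := X') k
  haveI : IsProper g := by
    haveI : IsProper (g ≫ (X ↘ Spec (CommRingCat.of k))) := hg ▸ inferInstance
    exact IsProper.of_comp g (X ↘ Spec (CommRingCat.of k))
  haveI : IsLocallyNoetherian Y := LocallyOfFiniteType.isLocallyNoetherian (ι ≫ (X' ↘ Spec (CommRingCat.of k)))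
  let F := (Scheme.Modules.pushforward ι).obj (Coh.structureModule Y)
  have hF : Coh.IsCoh F := DevLib.isCoh_pushforward_closed ι (DevLib.isCoh_structureModule _)
  haveI := hF.1
  rw [curveDeg_pullback k g hg Y ι hY L hL, curveDeg_pullback k g hg Y ι hY N hN, neg_inj, ← sub_eq_zero, ← map_sub]
  refine IntLib.kills_prod_sub k (fun _ : Fin 1 => L) (fun _ => N) (fun _ => hL) (fun _ => hN) (fun _ => hnum) _
    (RpushLib.isCoh_push g hF) ?_
  have hsub : CohB1.support ((Coh.push g).obj F) ⊆ Set.range (ι ≫ g) := by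
    refine (CycLib.support_push_subset g (DevLib.isClosed_support hF)).trans ?_
    rintro _ ⟨x, hx, rfl⟩
    obtain ⟨y, rfl⟩ := IntLib.support_pushforward_subset ι _ hx
    exact ⟨y, by rw [Scheme.Hom.comp_apply]⟩
  refine lt_of_le_of_lt ((Topology.IsEmbedding.inclusion hsub).isInducing.topologicalKrullDim_le.trans
    (dim_range_le k (ι ≫ (X' ↘ Spec (CommRingCat.of k))) (ι ≫ g) (by rw [Category.assoc, hg]) (r := 1)
      (by rw [hY, Nat.cast_one]))) ?_
  exact_mod_cast Nat.lt_succ_self 1

end Groth.Agent.NumPullLib
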